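import Groth.Prelude.Def_Found
import Groth.Agent.S0573
import Mathlib

/-!
# Finiteness of relative normalization over a Nagata base
-/

set_option autoImplicit false
set_option backward.isDefEq.respectTransparency false
set_option backward.isDefEq.respectTransparency.types false

universe u

open CategoryTheory AlgebraicGeometry

namespace Groth.Agent.NormNagata

/-- A reduced ring `C` with an injective family of maps to algebras in which the integral closure is finite. -/
theorem finite_integralClosure_of_family {A C : Type u} [CommRing A] [IsNoetherianRing A] [CommRing C] [Algebra A C]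
    {ι : Type*} [Finite ι] (D : ι → Type u) [∀ i, CommRing (D i)] [∀ i, Algebra A (D i)]
    (φ : ∀ i, C →ₐ[A] D i) (hinj : ∀ x : C, (∀ i, φ i x = 0) → x = 0)
    (hfin : ∀ i, Module.Finite A (integralClosure A (D i))) :
    Module.Finite A (integralClosure A C) := by
  let l : integralClosure A C →ₗ[A] ∀ i, integralClosure A (D i) :=
    LinearMap.pi fun i =>
      (((φ i).comp (integralClosure A C).val).codRestrict (integralClosure A (D i))
        fun x => x.2.map (φ i)).toLinearMap
  refine Module.Finite.of_injective l ((injective_iff_map_eq_zero l).2 fun x hx => ?_)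
  exact Subtype.ext (hinj x fun i => congrArg Subtype.val (congrFun hx i))

/-- The relative normalization is finite as soon as the integral closures on affine opens are. -/
theorem isFinite_fromNormalization_of {X Y : Scheme.{u}} (f : X ⟶ Y) [QuasiCompact f] [QuasiSeparated f]
    (h : ∀ U : Y.affineOpens, letI := (f.app U.1).hom.toAlgebra
      Module.Finite Γ(Y, U.1) (integralClosure Γ(Y, U.1) Γ(X, f ⁻¹ᵁ U.1))) :
    IsFinite f.fromNormalization := by
  rw [IsZariskiLocalAtTarget.iff_of_iSup_eq_top (P := @IsFinite) _ (iSup_affineOpens_eq_top _)]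
  intro U
  let e := IsOpenImmersion.isoOfRangeEq (f.fromNormalization ⁻¹ᵁ U).ι (f.normalizationOpenCover.f U)
      (by simpa using congr($(f.fromNormalization_preimage U).1))
  rw [← MorphismProperty.cancel_left_of_respectsIso @IsFinite e.inv,
    ← MorphismProperty.cancel_right_of_respectsIso @IsFinite _ U.2.isoSpec.hom]
  have : (f.normalizationDiagramMap.app (.op U)).hom.Finite := by
    let := (f.app U).hom.toAlgebra
    change (algebraMap Γ(Y, U) (integralClosure Γ(Y, U) Γ(X, f ⁻¹ᵁ U))).Finite
    exact RingHom.finite_algebraMap.2 (h U)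
  convert! (IsFinite.SpecMap_iff (f := f.normalizationDiagramMap.app (.op U.1))).mpr this
  rw [← cancel_mono U.2.fromSpec]
  simp [IsAffineOpen.isoSpec_hom, e, Scheme.Hom.ι_fromNormalization]

/-- The integral closure in the sections of a reduced scheme of finite type over a Nagata ring is finite. -/
theorem finite_integralClosure_of_finiteType {X Y : Scheme.{u}} (f : X ⟶ Y) [LocallyOfFiniteType f]
    [QuasiCompact f] [IsReduced X] (U : Y.affineOpens) (hU : CAlg.IsNagata Γ(Y, U.1)) :
    letI := (f.app U.1).hom.toAlgebra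
    Module.Finite Γ(Y, U.1) (integralClosure Γ(Y, U.1) Γ(X, f ⁻¹ᵁ U.1)) := by
  letI := (f.app U.1).hom.toAlgebra
  haveI := hU.1
  obtain ⟨c, hcfin, hc⟩ := isCompact_and_isOpen_iff_finite_and_eq_biUnion_affineOpens.1
    ⟨f.isCompact_preimage U.2.isCompact, (f ⁻¹ᵁ U.1).2⟩
  haveI := hcfin.to_subtype
  have hle : ∀ k : c, k.1.1 ≤ f ⁻¹ᵁ U.1 := fun k y hy => hc.ge (Set.mem_iUnion₂.2 ⟨k.1, k.2, hy⟩)
  letI : ∀ k : c, Algebra Γ(Y, U.1) Γ(X, k.1.1) := fun k => (f.appLE U.1 k.1.1 (hle k)).hom.toAlgebra
  let φ : ∀ k : c, Γ(X, f ⁻¹ᵁ U.1) →ₐ[Γ(Y, U.1)] Γ(X, k.1.1) := fun k =>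
    { (X.presheaf.map (homOfLE (hle k)).op).hom with commutes' := fun r => rfl }
  refine finite_integralClosure_of_family (fun k : c => Γ(X, k.1.1)) φ (fun x hx => ?_) fun k => ?_
  · refine X.sheaf.eq_of_locally_eq' (fun k : c => k.1.1) (f ⁻¹ᵁ U.1) (fun k => homOfLE (hle k))
      (fun y hy => ?_) x 0 fun k => (hx k).trans (map_zero _).symm
    obtain ⟨a, ha, hya⟩ := Set.mem_iUnion₂.1 (hc.le hy)
    exact TopologicalSpace.Opens.mem_iSup.2 ⟨⟨a, ha⟩, hya⟩
  · haveI : _root_.IsReduced Γ(X, k.1.1) := IsReduced.component_reduced _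
    haveI : Algebra.FiniteType Γ(Y, U.1) Γ(X, k.1.1) := f.finiteType_appLE U.2 k.1.2 (hle k)
    exact Groth.Agent.S0573.result _ hU _

end Groth.Agent.NormNagata
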