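import Groth.Agent.NormNagata.Basic
import Groth.Agent.S6333
import Mathlib

/-!
# Relative normalization over a Nagata base, in terms of the generic points
-/

set_option autoImplicit false
set_option backward.isDefEq.respectTransparency false
set_option backward.isDefEq.respectTransparency.types false

universe u

open CategoryTheory AlgebraicGeometry

namespace Groth.Agent.NormNagata

/-- The integral closure of a Nagata ring in a field essentially of finite type over it is finite. -/
theorem finite_integralClosure_field {A K : Type u} [CommRing A] (hA : CAlg.IsNagata A) [Field K] [Algebra A K]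
    [Algebra.EssFiniteType A K] : Module.Finite A (integralClosure A K) := by
  let p := RingHom.ker (algebraMap A K)
  haveI : p.IsPrime := RingHom.ker_isPrime _
  letI : Algebra (A ⧸ p) K := (Ideal.Quotient.lift p (algebraMap A K) fun _ h => h).toAlgebra
  haveI : IsScalarTower A (A ⧸ p) K := IsScalarTower.of_algebraMap_eq fun _ => rfl
  haveI : FaithfulSMul (A ⧸ p) K := (faithfulSMul_iff_algebraMap_injective _ _).2
    (RingHom.lift_injective_of_ker_le_ideal p _ le_rfl)
  let F := FractionRing (A ⧸ p)
  letI : Algebra F K := FractionRing.liftAlgebra (A ⧸ p) K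
  haveI : IsScalarTower (A ⧸ p) F K := inferInstance
  haveI : IsScalarTower A (A ⧸ p) F := inferInstance
  haveI : IsScalarTower A F K := IsScalarTower.of_algebraMap_eq fun r => by
    rw [IsScalarTower.algebraMap_apply A (A ⧸ p) F, ← IsScalarTower.algebraMap_apply (A ⧸ p) F K,
      ← IsScalarTower.algebraMap_apply A (A ⧸ p) K]
  haveI : Algebra.EssFiniteType F K := Algebra.EssFiniteType.of_comp A F K
  haveI : FiniteDimensional F (algebraicClosure F K) := Groth.Agent.S6333.result (IntermediateField.fg_top F K)
  let L := algebraicClosure F K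
  haveI : IsScalarTower (A ⧸ p) L K := ⟨fun r l k => by
    rw [Algebra.smul_def, Algebra.smul_def, Algebra.smul_def, map_mul, Algebra.smul_def, mul_assoc]
    congr 1⟩
  haveI : IsScalarTower A L K := ⟨fun r l k => by
    rw [Algebra.smul_def, Algebra.smul_def, Algebra.smul_def, map_mul, Algebra.smul_def, mul_assoc]
    congr 1⟩
  haveI : IsScalarTower A (A ⧸ p) L := IsScalarTower.of_algebraMap_eq fun r =>
    Subtype.ext (IsScalarTower.algebraMap_apply A (A ⧸ p) K r |>.trans
      (IsScalarTower.algebraMap_apply (A ⧸ p) L K (algebraMap A (A ⧸ p) r)))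
  haveI : Module.Finite (A ⧸ p) (integralClosure (A ⧸ p) L) := hA.2 p L inferInstance
  haveI : Module.Finite A (A ⧸ p) := Module.Finite.of_surjective (Algebra.linearMap A (A ⧸ p)) Ideal.Quotient.mk_surjective
  haveI : Module.Finite A (integralClosure (A ⧸ p) L) := Module.Finite.trans (A ⧸ p) _
  haveI := hA.1
  let g : L →ₐ[A] K := IsScalarTower.toAlgHom A L K
  let j : integralClosure (A ⧸ p) L →ₗ[A] K := g.toLinearMap.comp ((integralClosure (A ⧸ p) L).val.toLinearMap.restrictScalars A)
  have hle : Subalgebra.toSubmodule (integralClosure A K) ≤ LinearMap.range j := fun x hx => by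
    have hxF : IsIntegral F x := hx.tower_top
    let y : L := ⟨x, mem_algebraicClosure_iff.2 hxF.isAlgebraic⟩
    have hyA : IsIntegral A y := (isIntegral_algHom_iff g (algebraMap L K).injective).1 hx
    exact ⟨⟨y, hyA.tower_top⟩, rfl⟩
  haveI : IsNoetherian A (LinearMap.range j) := isNoetherian_of_isNoetherianRing_of_finite A _
  exact Module.Finite.of_injective (Submodule.inclusion hle) (Submodule.inclusion_injective hle)

/-- Over the open preimage, through the residue fields of the generic points. -/
theorem finite_integralClosure_of_generic {X S : Scheme.{u}} (f : X ⟶ S) [QuasiCompact f] [IsReduced X]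
    (hfin : LocallyFinite (fun Z : ↥(irreducibleComponents ↥X) => (Z : Set ↥X)))
    (hres : ∀ x : X, closure {x} ∈ irreducibleComponents ↥X → (f.residueFieldMap x).hom.EssFiniteType)
    (U : S.affineOpens) (hU : CAlg.IsNagata Γ(S, U.1)) :
    letI := (f.app U.1).hom.toAlgebra
    Module.Finite Γ(S, U.1) (integralClosure Γ(S, U.1) Γ(X, f ⁻¹ᵁ U.1)) := by
  letI := (f.app U.1).hom.toAlgebra
  haveI := hU.1
  let G := {x : X // closure {x} ∈ irreducibleComponents ↥X ∧ x ∈ f ⁻¹ᵁ U.1}
  haveI : Finite G := by
    have h1 := hfin.finite_nonempty_inter_compact (f.isCompact_preimage U.2.isCompact)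
    haveI : Finite {Z : ↥(irreducibleComponents ↥X) | ((Z : Set ↥X) ∩ f ⁻¹' U.1).Nonempty} := h1.to_subtype
    refine Finite.of_injective
      (fun x : G => (⟨⟨closure {x.1}, x.2.1⟩, ⟨x.1, subset_closure rfl, x.2.2⟩⟩ :
        {Z : ↥(irreducibleComponents ↥X) | ((Z : Set ↥X) ∩ f ⁻¹' U.1).Nonempty})) fun x y hxy => ?_
    exact Subtype.ext (IsGenericPoint.eq (isGenericPoint_closure (x := x.1))
      ((congrArg (fun Z => (Z.1.1 : Set ↥X)) hxy : closure {x.1} = closure {y.1}).symm))
  letI : ∀ x : G, Algebra Γ(S, U.1) (X.residueField x.1) := fun x =>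
    ((X.evaluation (f ⁻¹ᵁ U.1) x.1 x.2.2).hom.comp (f.app U.1).hom).toAlgebra
  let φ : ∀ x : G, Γ(X, f ⁻¹ᵁ U.1) →ₐ[Γ(S, U.1)] X.residueField x.1 := fun x =>
    { (X.evaluation (f ⁻¹ᵁ U.1) x.1 x.2.2).hom with commutes' := fun _ => rfl }
  refine finite_integralClosure_of_family (fun x : G => X.residueField x.1) φ (fun s hs => ?_) fun x => ?_
  · refine eq_zero_of_basicOpen_eq_bot _ (le_bot_iff.1 fun y hy => ?_)
    obtain ⟨Z, hZ, hyZ⟩ : ∃ Z ∈ irreducibleComponents ↥X, y ∈ Z :=
      ⟨_, irreducibleComponent_mem_irreducibleComponents y, mem_irreducibleComponent⟩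
    obtain ⟨x, hx⟩ := QuasiSober.sober hZ.1 (isClosed_of_mem_irreducibleComponents Z hZ)
    have hxy : x ⤳ y := hx.specializes hyZ
    have hxb : x ∈ X.basicOpen s := hxy.mem_open (X.basicOpen s).2 hy
    exact (Scheme.evaluation_ne_zero_iff_mem_basicOpen X x (X.basicOpen_le s hxb) s).2 hxb
      (hs ⟨x, hx.def ▸ hZ, X.basicOpen_le s hxb⟩)
  · haveI : Algebra.EssFiniteType Γ(S, U.1) (X.residueField x.1) := by
      letI := (S.evaluation U.1 (f x.1) x.2.2).hom.toAlgebra
      letI := (f.residueFieldMap x.1).hom.toAlgebra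
      haveI : IsScalarTower Γ(S, U.1) (S.residueField (f x.1)) (X.residueField x.1) :=
        IsScalarTower.of_algebraMap_eq fun r => (Scheme.evaluation_naturality_apply f x.1 x.2.2 r).symm
      haveI : Algebra.EssFiniteType (S.residueField (f x.1)) (X.residueField x.1) := hres x.1 x.2.1
      haveI : Algebra.EssFiniteType Γ(S, U.1) (S.residueField (f x.1)) := by
        letI : Algebra Γ(S, U.1) (S.presheaf.stalk (f x.1)) :=
          TopCat.Presheaf.algebra_section_stalk S.presheaf ⟨f x.1, x.2.2⟩
        haveI : IsLocalization.AtPrime (S.presheaf.stalk (f x.1)) (U.2.primeIdealOf ⟨f x.1, x.2.2⟩).asIdeal :=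
          U.2.isLocalization_stalk ⟨f x.1, x.2.2⟩
        haveI : Algebra.EssFiniteType Γ(S, U.1) (S.presheaf.stalk (f x.1)) :=
          Algebra.EssFiniteType.of_isLocalization _ (U.2.primeIdealOf ⟨f x.1, x.2.2⟩).asIdeal.primeCompl
        letI : Algebra (S.presheaf.stalk (f x.1)) (S.residueField (f x.1)) := (S.residue (f x.1)).hom.toAlgebra
        haveI : IsScalarTower Γ(S, U.1) (S.presheaf.stalk (f x.1)) (S.residueField (f x.1)) :=
          IsScalarTower.of_algebraMap_eq fun _ => rfl
        haveI : Algebra.FiniteType (S.presheaf.stalk (f x.1)) (S.residueField (f x.1)) :=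
          RingHom.FiniteType.of_surjective _ Ideal.Quotient.mk_surjective
        exact Algebra.EssFiniteType.comp _ (S.presheaf.stalk (f x.1)) _
      exact Algebra.EssFiniteType.comp _ (S.residueField (f x.1)) _
    exact finite_integralClosure_field hU

end Groth.Agent.NormNagata
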